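import Cfsg.Agent.LieClassical.OrthFinite
import Cfsg.Agent.LieClassical.OrthCenter
import Cfsg.Agent.LieClassical.OmegaReindex
import Cfsg.Agent.ClassicalGeometry.OrthSemiForms
import Cfsg.Agent.UGT.U2.Rec.Congr
import Cfsg.Agent.S0286
import Cfsg.Agent.S0292

/-!
# `Ω₉(3)` as a group of linear maps of `F_3 ^ 9` (S2464, helper529)

`B x y = x₀y₁ + x₁y₀ + x₂y₃ + x₃y₂ + x₄y₅ + x₅y₄ + x₆y₇ + x₇y₆ + x₈y₈`, `OB` its isometry group, `NB = [OB, OB]`:
`NB ≃ POmega F (quadFormOdd 4 F)`, `|F| = 3`, `|NB| = 65784756654489600`, `|OB| = 4 |NB|`.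
-/

set_option autoImplicit false
set_option linter.unusedSimpArgs false

namespace Cfsg.Agent.H529.O9

open Cfsg Matrix
open Cfsg.Agent.LieClassical.OrthCore Cfsg.Agent.LieClassical.OrthFinite
open Cfsg.Agent.LieClassical.OmegaReindex (quadOdd coe_quadOdd quadOdd_nondegenerate)

/-- The space. -/
abbrev V9 : Type := Fin 9 → ZMod 3

/-- The index set of `quadFormOdd 4`. -/
abbrev I9 : Type := Unit ⊕ (Fin 4 ⊕ Fin 4)

/-- The form. -/
def B (x y : V9) : ZMod 3 :=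
  x 0 * y 1 + x 1 * y 0 + x 2 * y 3 + x 3 * y 2 + x 4 * y 5 + x 5 * y 4 + x 6 * y 7 + x 7 * y 6 + x 8 * y 8

/-- The isometry group. -/
def OB : Subgroup (V9 ≃ₗ[ZMod 3] V9) where
  carrier := {g | ∀ x y, B (g x) (g y) = B x y}
  mul_mem' {a b} ha hb := fun x y => by
    show B (a (b x)) (a (b y)) = B x y
    rw [ha, hb]
  one_mem' := fun _ _ => rfl
  inv_mem' {a} ha := fun x y => by
    have h := ha (a⁻¹ x) (a⁻¹ y)
    have h1 : ∀ v, a (a⁻¹ v) = v := fun v => LinearEquiv.apply_symm_apply a v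
    rw [h1, h1] at h
    exact h.symm

theorem mem_OB {g : V9 ≃ₗ[ZMod 3] V9} : g ∈ OB ↔ ∀ x y, B (g x) (g y) = B x y := Iff.rfl

theorem B_eq (x y : V9) : B x y = 2 * (B (x + y) (x + y) - B x x - B y y) := by
  have h3 : (3 : ZMod 3) = 0 := by decide
  unfold B
  simp only [Pi.add_apply]
  linear_combination (-(x 0 * y 1 + x 1 * y 0 + x 2 * y 3 + x 3 * y 2 + x 4 * y 5 + x 5 * y 4 + x 6 * y 7 + x 7 * y 6 + x 8 * y 8)) * h3

/-- The map of the coordinates. -/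
def T : (I9 → ZMod 3) ≃ₗ[ZMod 3] V9 where
  toFun v := ![v (.inr (.inl 0)), -v (.inr (.inr 0)), v (.inr (.inl 1)), -v (.inr (.inr 1)), v (.inr (.inl 2)),
    -v (.inr (.inr 2)), v (.inr (.inl 3)), -v (.inr (.inr 3)), v (.inl ())]
  map_add' u v := by
    funext i
    fin_cases i <;> simp [add_comm]
  map_smul' a v := by
    funext i
    fin_cases i <;> simp
  invFun w := Sum.elim (fun _ => w 8) (Sum.elim ![w 0, w 2, w 4, w 6] ![-w 1, -w 3, -w 5, -w 7])
  left_inv v := by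
    funext i
    rcases i with i | i | i
    · rfl
    · fin_cases i <;> rfl
    · fin_cases i <;> simp
  right_inv w := by
    funext i
    fin_cases i <;> simp

theorem Q_T (v : I9 → ZMod 3) : quadOdd 4 (ZMod 3) v = B (T v) (T v) := by
  have h3 : (3 : ZMod 3) = 0 := by decide
  rw [show quadOdd 4 (ZMod 3) v = quadFormOdd 4 (ZMod 3) v from congrFun (coe_quadOdd 4 (ZMod 3)) v]
  unfold quadFormOdd B
  rw [Fin.sum_univ_four]
  simp only [T, LinearEquiv.coe_mk, LinearMap.coe_mk, AddHom.coe_mk]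
  simp only [show (![v (.inr (.inl 0)), -v (.inr (.inr 0)), v (.inr (.inl 1)), -v (.inr (.inr 1)), v (.inr (.inl 2)),
    -v (.inr (.inr 2)), v (.inr (.inl 3)), -v (.inr (.inr 3)), v (.inl ())] : V9) 0 = v (.inr (.inl 0)) from rfl,
    show (![v (.inr (.inl 0)), -v (.inr (.inr 0)), v (.inr (.inl 1)), -v (.inr (.inr 1)), v (.inr (.inl 2)),
    -v (.inr (.inr 2)), v (.inr (.inl 3)), -v (.inr (.inr 3)), v (.inl ())] : V9) 1 = -v (.inr (.inr 0)) from rfl,
    show (![v (.inr (.inl 0)), -v (.inr (.inr 0)), v (.inr (.inl 1)), -v (.inr (.inr 1)), v (.inr (.inl 2)),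
    -v (.inr (.inr 2)), v (.inr (.inl 3)), -v (.inr (.inr 3)), v (.inl ())] : V9) 2 = v (.inr (.inl 1)) from rfl,
    show (![v (.inr (.inl 0)), -v (.inr (.inr 0)), v (.inr (.inl 1)), -v (.inr (.inr 1)), v (.inr (.inl 2)),
    -v (.inr (.inr 2)), v (.inr (.inl 3)), -v (.inr (.inr 3)), v (.inl ())] : V9) 3 = -v (.inr (.inr 1)) from rfl,
    show (![v (.inr (.inl 0)), -v (.inr (.inr 0)), v (.inr (.inl 1)), -v (.inr (.inr 1)), v (.inr (.inl 2)),
    -v (.inr (.inr 2)), v (.inr (.inl 3)), -v (.inr (.inr 3)), v (.inl ())] : V9) 4 = v (.inr (.inl 2)) from rfl,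
    show (![v (.inr (.inl 0)), -v (.inr (.inr 0)), v (.inr (.inl 1)), -v (.inr (.inr 1)), v (.inr (.inl 2)),
    -v (.inr (.inr 2)), v (.inr (.inl 3)), -v (.inr (.inr 3)), v (.inl ())] : V9) 5 = -v (.inr (.inr 2)) from rfl,
    show (![v (.inr (.inl 0)), -v (.inr (.inr 0)), v (.inr (.inl 1)), -v (.inr (.inr 1)), v (.inr (.inl 2)),
    -v (.inr (.inr 2)), v (.inr (.inl 3)), -v (.inr (.inr 3)), v (.inl ())] : V9) 6 = v (.inr (.inl 3)) from rfl,
    show (![v (.inr (.inl 0)), -v (.inr (.inr 0)), v (.inr (.inl 1)), -v (.inr (.inr 1)), v (.inr (.inl 2)),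
    -v (.inr (.inr 2)), v (.inr (.inl 3)), -v (.inr (.inr 3)), v (.inl ())] : V9) 7 = -v (.inr (.inr 3)) from rfl,
    show (![v (.inr (.inl 0)), -v (.inr (.inr 0)), v (.inr (.inl 1)), -v (.inr (.inr 1)), v (.inr (.inl 2)),
    -v (.inr (.inr 2)), v (.inr (.inl 3)), -v (.inr (.inr 3)), v (.inl ())] : V9) 8 = v (.inl ()) from rfl]
  linear_combination (v (.inr (.inl 0)) * v (.inr (.inr 0)) + v (.inr (.inl 1)) * v (.inr (.inr 1)) +
    v (.inr (.inl 2)) * v (.inr (.inr 2)) + v (.inr (.inl 3)) * v (.inr (.inr 3))) * h3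

/-- Conjugation by `T`. -/
def cT : ((I9 → ZMod 3) ≃ₗ[ZMod 3] (I9 → ZMod 3)) ≃* (V9 ≃ₗ[ZMod 3] V9) where
  toFun g := (T.symm.trans g).trans T
  invFun g := (T.trans g).trans T.symm
  left_inv g := by
    ext v
    simp
  right_inv g := by
    ext v
    simp
  map_mul' a b := by
    ext v
    simp [LinearEquiv.mul_apply]

theorem cT_apply (g : (I9 → ZMod 3) ≃ₗ[ZMod 3] (I9 → ZMod 3)) (v : I9 → ZMod 3) : cT g (T v) = T (g v) := by
  show T (g (T.symm (T v))) = T (g v)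
  rw [LinearEquiv.symm_apply_apply]

theorem map_O : (O (quadOdd 4 (ZMod 3))).map cT.toMonoidHom = OB := by
  ext g
  constructor
  · rintro ⟨h, hh, rfl⟩
    have hq : ∀ w, B (cT h w) (cT h w) = B w w := by
      intro w
      obtain ⟨v, rfl⟩ := T.surjective w
      rw [cT_apply, ← Q_T, ← Q_T]
      exact hh v
    intro x y
    show B (cT h x) (cT h y) = B x y
    rw [B_eq, B_eq x y, ← map_add, hq, hq, hq]
  · intro hg
    refine ⟨cT.symm g, ?_, cT.apply_symm_apply g⟩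
    intro v
    show quadOdd 4 (ZMod 3) (cT.symm g v) = _
    rw [Q_T, Q_T, ← cT_apply, cT.apply_symm_apply]
    exact hg _ _

/-- `Ω₉(3)` -/
def NB : Subgroup (V9 ≃ₗ[ZMod 3] V9) := ⁅OB, OB⁆

theorem NB_le : NB ≤ OB := by
  refine Subgroup.commutator_le.2 fun a ha b hb => ?_
  rw [commutatorElement_def]
  exact OB.mul_mem (OB.mul_mem (OB.mul_mem ha hb) (OB.inv_mem ha)) (OB.inv_mem hb)

theorem NB_conj {a x : V9 ≃ₗ[ZMod 3] V9} (ha : a ∈ OB) (hx : x ∈ NB) : a * x * a⁻¹ ∈ NB := by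
  have h1 : (NB.map (MulAut.conj a).toMonoidHom) = NB := by
    unfold NB
    rw [Subgroup.map_commutator]
    have h2 : OB.map (MulAut.conj a).toMonoidHom = OB := by
      ext y
      constructor
      · rintro ⟨z, hz, rfl⟩
        exact OB.mul_mem (OB.mul_mem ha hz) (OB.inv_mem ha)
      · intro hy
        refine ⟨a⁻¹ * y * a, OB.mul_mem (OB.mul_mem (OB.inv_mem ha) hy) ha, ?_⟩
        show a * (a⁻¹ * y * a) * a⁻¹ = y
        group
    rw [h2]
  rw [← h1]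
  exact ⟨x, hx, rfl⟩

/-- The commutator subgroup. -/
noncomputable def eN : Omega (ZMod 3) ⇑(quadOdd 4 (ZMod 3)) ≃* NB :=
  (omegaEquiv (quadOdd 4 (ZMod 3))).trans ((cT.subgroupMap _).trans (MulEquiv.subgroupCongr (by
    show Subgroup.map cT.toMonoidHom ⁅O (quadOdd 4 (ZMod 3)), O (quadOdd 4 (ZMod 3))⁆ = NB
    rw [Subgroup.map_commutator, map_O]
    rfl)))

theorem center_bot : Subgroup.center (Omega (ZMod 3) ⇑(quadOdd 4 (ZMod 3))) = ⊥ := by
  classical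
  have h2 : (2 : ZMod 3) ≠ 0 := by decide
  refine Cfsg.Agent.LieClassical.OrthCenter.center_omega_eq_bot_of_odd h2 (quadOdd_nondegenerate h2) (by simp)
    (by simp; decide) ⟨Pi.single (.inr (.inl 0)) 1, ?_, ?_⟩
  · intro h
    have := congrFun h (.inr (.inl 0))
    rw [Pi.single_eq_same] at this
    exact one_ne_zero this
  · rw [coe_quadOdd]
    unfold Cfsg.quadFormOdd
    rw [Fin.sum_univ_four]
    simp

/-- `PΩ₉(3) ≃ NB` -/
theorem exists_equiv : Nonempty (POmega (ZMod 3) (quadFormOdd 4 (ZMod 3)) ≃* NB) := by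
  have h : Nonempty (POmega (ZMod 3) ⇑(quadOdd 4 (ZMod 3)) ≃* NB) :=
    ⟨((QuotientGroup.quotientMulEquivOfEq center_bot).trans QuotientGroup.quotientBot).trans eN⟩
  rwa [coe_quadOdd] at h

theorem card_NB : Nat.card NB = 65784756654489600 := by
  obtain ⟨e⟩ := exists_equiv
  have h := Cfsg.Agent.S0292.result (F := ZMod 3) (q := 3) (ZMod.card 3) (by decide) 4 (by norm_num)
  rw [Nat.card_congr e.toEquiv] at h
  have h2 : 3 ^ (4 ^ 2) * ∏ i ∈ Finset.range 4, (3 ^ (2 * (i + 1)) - 1) = 2 * 65784756654489600 := by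
    norm_num [Finset.prod_range_succ]
  rw [h2] at h
  omega

theorem card_OB : Nat.card OB = 4 * 65784756654489600 := by
  have h1 : Nat.card OB = Nat.card (O (quadOdd 4 (ZMod 3))) := by
    rw [← map_O]
    exact (Nat.card_congr (cT.subgroupMap _).toEquiv).symm
  have h2 : Nat.card (O (quadOdd 4 (ZMod 3))) = Nat.card (Cfsg.isometryGroup (ZMod 3) (quadFormOdd 4 (ZMod 3))) := by
    rw [← coe_quadOdd]
    exact (Nat.card_congr (isometryEquiv _).toEquiv).symm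
  rw [h1, h2, Cfsg.Agent.S0286.result (F := ZMod 3) (q := 3) (ZMod.card 3) (by decide) 4]
  norm_num [Finset.prod_range_succ]

/-- Every `PΩ₉(F)`, `|F| = 3`, is `NB`. -/
theorem equiv_of {F : Type*} [Field F] [Fintype F] (hF : Fintype.card F = 3) :
    Nonempty (POmega F (quadFormOdd 4 F) ≃* NB) := by
  have : Fact (Nat.Prime 3) := ⟨Nat.prime_three⟩
  have σ : F ≃+* ZMod 3 := (ZMod.ringEquivOfPrime F Nat.prime_three hF).symm
  obtain ⟨e1⟩ := Cfsg.Agent.UGT.U2.Rec.Congr.nonempty_POmegaOdd σ 4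
  obtain ⟨e2⟩ := exists_equiv
  exact ⟨e1.trans e2⟩

/-- The cover property inside the linear group. -/
def Cov (N : Subgroup (V9 ≃ₗ[ZMod 3] V9)) : Prop :=
  ∃ X ∈ N, ∃ Y ∈ N, orderOf X = 41 ∧ orderOf Y = 41 ∧ ∀ g ∈ N, g ≠ 1 → ∃ u ∈ N, ∃ v ∈ N,
    g = (u * X * u⁻¹) * (v * Y * v⁻¹)

/-- The cover property for a group isomorphic to `N`. -/
theorem exists_of_cov {N : Subgroup (V9 ≃ₗ[ZMod 3] V9)} (h : Cov N) {S : Type*} [Group S] (e : S ≃* N) :
    ∃ x y : S, orderOf x = 41 ∧ orderOf y = 41 ∧ ∀ g : S, g ≠ 1 → ∃ u v : S, g = (u * x * u⁻¹) * (v * y * v⁻¹) := by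
  obtain ⟨X, hX, Y, hY, oX, oY, h⟩ := h
  refine ⟨e.symm ⟨X, hX⟩, e.symm ⟨Y, hY⟩, ?_, ?_, fun g hg => ?_⟩
  · rw [MulEquiv.orderOf_eq, Subgroup.orderOf_mk, oX]
  · rw [MulEquiv.orderOf_eq, Subgroup.orderOf_mk, oY]
  · have hne : (e g : V9 ≃ₗ[ZMod 3] V9) ≠ 1 := by
      intro h1
      apply hg
      apply e.injective
      rw [map_one]
      exact Subtype.ext h1
    obtain ⟨u, hu, v, hv, e1⟩ := h (e g) (e g).2 hne
    refine ⟨e.symm ⟨u, hu⟩, e.symm ⟨v, hv⟩, ?_⟩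
    apply e.injective
    apply Subtype.ext
    rw [map_mul, map_mul, map_mul, map_mul, map_mul, map_inv, map_inv]
    simp only [MulEquiv.apply_symm_apply, Subgroup.coe_mul, Subgroup.coe_inv]
    exact e1

/-- **`PΩ₉(3)` from the kernel certificate** (the form of S2464). -/
theorem six_of_cov (h : Cov NB) {F : Type*} [Field F] [Fintype F] (hF : Fintype.card F = 3) :
    ∃ x y : POmega F (quadFormOdd 4 F), Nat.Coprime (orderOf x) 6 ∧ Nat.Coprime (orderOf y) 6 ∧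
      ∀ g : POmega F (quadFormOdd 4 F), g ≠ 1 → ∃ u v : POmega F (quadFormOdd 4 F),
        g = (u * x * u⁻¹) * (v * y * v⁻¹) := by
  obtain ⟨e⟩ := equiv_of hF
  obtain ⟨x, y, hx, hy, h⟩ := exists_of_cov h e
  exact ⟨x, y, by rw [hx]; norm_num, by rw [hy]; norm_num, h⟩

end Cfsg.Agent.H529.O9
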